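import Groth.Prelude.Def_W4c2conddiscmodels
import Mathlib.Data.Rat.Lemmas
import Mathlib.RingTheory.Coprime.Lemmas

/-! Continuants of Hirzebruch–Jung continued fractions. -/

set_option autoImplicit false

namespace HJLib

variable (b : ℕ → ℤ) (l : ℕ)

/-- Continuants of the tails, counted from the end. -/
def q : ℕ → ℤ
  | 0 => 0
  | 1 => 1
  | k + 2 => b (l - k) * q (k + 1) - q k

variable {b l}

theorem q_facts (hb : ∀ i, 1 ≤ i → i ≤ l → 2 ≤ b i) :
    ∀ k, k ≤ l → 0 ≤ q b l k ∧ q b l k < q b l (k + 1) ∧ IsCoprime (q b l (k + 1)) (q b l k) := by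
  intro k
  induction k with
  | zero => exact fun _ => ⟨le_rfl, zero_lt_one, isCoprime_one_left⟩
  | succ k ih =>
    intro hk
    obtain ⟨h0, h1, h2⟩ := ih (by omega)
    have hb2 := hb (l - k) (by omega) (by omega)
    refine ⟨by omega, ?_, ?_⟩
    · show q b l (k + 1) < b (l - k) * q b l (k + 1) - q b l k
      nlinarith
    · show IsCoprime (b (l - k) * q b l (k + 1) - q b l k) (q b l (k + 1))
      obtain ⟨u, v, huv⟩ := h2
      exact ⟨-v, u + v * b (l - k), by linear_combination huv⟩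

theorem hjVal_eq (hb : ∀ i, 1 ≤ i → i ≤ l → 2 ≤ b i) :
    ∀ k, k ≤ l → HJFrac.hjVal ((List.range' (l + 1 - k) k).map b) = if k = 0 then 0 else (q b l (k + 1) : ℚ) / q b l k := by
  intro k
  induction k with
  | zero => intro _; rfl
  | succ k ih =>
    intro hk
    rw [if_neg (by omega), List.range'_succ, List.map_cons]
    show ((b (l + 1 - (k + 1)) : ℤ) : ℚ) - (HJFrac.hjVal ((List.range' (l + 1 - (k + 1) + 1) k).map b))⁻¹ = _
    rw [show l + 1 - (k + 1) + 1 = l + 1 - k by omega, ih (by omega), show l + 1 - (k + 1) = l - k by omega]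
    obtain ⟨h0, h1, -⟩ := q_facts hb k (by omega)
    have hq : (q b l (k + 1) : ℚ) ≠ 0 := Int.cast_ne_zero.2 (by omega)
    have hrec : (q b l (k + 1 + 1) : ℚ) = (b (l - k) : ℚ) * q b l (k + 1) - q b l k := by
      show ((b (l - k) * q b l (k + 1) - q b l k : ℤ) : ℚ) = _
      push_cast; ring
    rw [hrec]
    by_cases hk0 : k = 0
    · subst hk0
      simp [q]
    · rw [if_neg hk0]
      field_simp

theorem n_eq {n r : ℕ} (hb : ∀ i, 1 ≤ i → i ≤ l → 2 ≤ b i) (hl : 1 ≤ l) (hr : 0 < r) (hcop : Nat.Coprime r n)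
    (hhj : (n : ℚ) / r = HJFrac.hjVal ((List.range l).map fun i => b (i + 1))) :
    (n : ℤ) = q b l (l + 1) ∧ (r : ℤ) = q b l l := by
  have h := hjVal_eq hb l le_rfl
  rw [show l + 1 - l = 1 by omega, if_neg (by omega), List.range'_eq_map_range, List.map_map] at h
  rw [show ((List.range l).map fun i => b (i + 1)) = (List.range l).map (b ∘ fun x => 1 + x) from
    List.map_congr_left fun i _ => by simp [add_comm], h] at hhj
  obtain ⟨h0, h1, h2⟩ := q_facts hb l le_rfl
  have hql : 0 < q b l l := by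
    rcases Nat.exists_eq_add_of_le hl with ⟨j, hj⟩
    obtain ⟨a0, a1, -⟩ := q_facts hb j (by omega)
    have e : q b l l = q b l (j + 1) := congrArg (q b l) (by omega)
    omega
  have e1 : (n : ℤ) * q b l l = q b l (l + 1) * r := by
    rw [div_eq_div_iff (Nat.cast_ne_zero.2 hr.ne') (Int.cast_ne_zero.2 hql.ne')] at hhj
    exact_mod_cast hhj
  have hc : IsCoprime (r : ℤ) n := Nat.isCoprime_iff_coprime.2 hcop
  have d1 : (r : ℤ) ∣ q b l l := hc.dvd_of_dvd_mul_left ⟨q b l (l + 1), by linear_combination e1⟩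
  have d2 : q b l l ∣ (r : ℤ) := h2.symm.dvd_of_dvd_mul_left ⟨n, by linear_combination -e1⟩
  have e2 : (r : ℤ) = q b l l := Int.dvd_antisymm (by omega) hql.le d1 d2
  refine ⟨?_, e2⟩
  rw [← e2] at e1
  exact mul_right_cancel₀ (Nat.cast_ne_zero.2 hr.ne') e1

theorem conserved (μ : ℕ → ℤ) (hsys : ∀ i, 1 ≤ i → i ≤ l → b i * μ i = μ (i - 1) + μ (i + 1)) :
    ∀ j, j ≤ l → q b l (j + 1) * μ (l + 1 - j) - q b l j * μ (l - j) = μ (l + 1) := by
  intro j
  induction j with
  | zero => intro _; simp [q]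
  | succ j ih =>
    intro hj
    rw [← ih (by omega)]
    show (b (l - j) * q b l (j + 1) - q b l j) * μ (l + 1 - (j + 1)) - q b l (j + 1) * μ (l - (j + 1)) = _
    have h := hsys (l - j) (by omega) (by omega)
    rw [show l - j - 1 = l - (j + 1) by omega, show l - j + 1 = l + 1 - j by omega] at h
    rw [show l + 1 - (j + 1) = l - j by omega]
    linear_combination q b l (j + 1) * h

end HJLib
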